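import Cfsg.Agent.H905.MdE
import Cfsg.Agent.H905.DCIndex

/-!
# Counting vertices and edges (helper650)

`R : RGD cs h p T n X`, `ρ` simple in characteristic `p`, `δ = dim V^U`, `i ∉ J`, `ε_i = dim Io i`, `d_i = dim Le {i}`.

* `co i w` (helper905) : the functional `w⁻¹ ω_i^∨`; `mo i w` : the functional `w⁻¹ (ω_i^∨ + s_i ω_i^∨)`;
* `not_sameEdge` : different `mo` give different edges;
* **`dim_ge_gen`** : vertices separated by the `co i`, edges separated by the `mo i`;
* **`dim_ge_orbit`**, `dim_ge_orbit_two` : one node, two nodes; **`dim_ge_list`**, `dim_ge_list_two` : decidable versions;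
* **`edge_half`** : `N d_i ≤ 2 dim V`, `N` the number of vertices.
-/

set_option autoImplicit false
set_option linter.unusedSectionVars false
set_option linter.style.haveILetI false

namespace Cfsg.Agent.H650.Ppd

open CoxeterSystem Cfsg.Agent.ChevalleyStructure.CoxeterGeom Cfsg.Agent.Tits.Roots Cfsg.Agent.Tits.Core
  Cfsg.Agent.Tits.Exchange Cfsg.Agent.Nodes.Reps Cfsg.Agent.Nodes.BNOf Cfsg.Agent.Nodes.StabComb
  Cfsg.Agent.Nodes.Bruhat Cfsg.Agent.Nodes.OppDec Cfsg.Agent.Nodes.LeviDec Cfsg.Agent.KFacts.RgdOpp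
  Cfsg.Agent.Omega.CR Cfsg.Agent.Omega.FOne.Lift.Sd Cfsg.Agent.H905.Md
open Cfsg.Agent.H905.DC (co fire cf co_one co_mul_simple co_mul_left co_wordProd)

section comb

variable {I W : Type*} [Fintype I] [DecidableEq I] [Group W] {M : CoxeterMatrix I}
  {cs : CoxeterSystem M W} {A : I → I → ℤ} {h : IsCartan M A}

/-- reflections with the same root are equal -/
theorem conj_simple_of_rep [Finite W] {u : W} {i j : I} (hu : rep cs h u (sr i) = sr j) :
    u * cs.simple i * u⁻¹ = cs.simple j := by
  have := Fintype.ofFinite W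
  apply rep_injective cs h
  refine LinearMap.ext fun x => ?_
  have e1 := two_form cs h i (rep cs h u⁻¹ x)
  have e2 := two_form cs h j x
  have e3 : form cs h (rep cs h u⁻¹ x) (sr i) = form cs h x (sr j) := by
    rw [← hu, ← form_rep cs h u, rep_apply_inv]
  have e4 : form cs h (sr i) (sr i) = form cs h (sr j) (sr j) := by
    rw [← hu, form_rep]
  have e5 : pairing A i (rep cs h u⁻¹ x) = pairing A j x := by
    rw [e3, e2, e4] at e1
    exact (mul_right_cancel₀ (form_pos cs h (sr_ne_zero j)).ne' e1).symm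
  rw [rep_mul_apply, rep_mul_apply, rep_simple_eq, rep_simple_eq, map_sub, map_smul, hu, rep_apply_inv, e5]

/-- the functional of the edge -/
def mo (cs : CoxeterSystem M W) (h : IsCartan M A) (i : I) (w : W) : I → ℤ :=
  fun m => co cs h i w m + co cs h i (cs.simple i * w) m

theorem mo_simple_mul (i : I) (w : W) : mo cs h i (cs.simple i * w) = mo cs h i w := by
  funext m
  unfold mo
  rw [← mul_assoc, cs.simple_mul_simple_self, one_mul, add_comm]

theorem fire_add (A : I → I → ℤ) (a b : I → ℤ) (j : I) :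
    fire A (fun m => a m + b m) j = fun m => fire A a j m + fire A b j m := by
  funext m
  unfold fire
  ring

theorem mo_mul_simple (i : I) (w : W) (j : I) : mo cs h i (w * cs.simple j) = fire A (mo cs h i w) j := by
  unfold mo
  rw [fire_add, co_mul_simple, ← mul_assoc, co_mul_simple]

/-- `2 ω_i^∨ - α_i^∨` -/
def m0 (A : I → I → ℤ) (i : I) : I → ℤ := fun m => 2 * (Pi.single i 1 : I → ℤ) m - A i m

theorem mo_one (i : I) : mo cs h i 1 = m0 A i := by
  funext m
  have h1 : co cs h i (cs.simple i * 1) m = fire A (co cs h i 1) i m := by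
    rw [mul_one, ← one_mul (cs.simple i), co_mul_simple]
  unfold mo
  rw [h1, co_one]
  unfold fire m0
  rw [sr_self, mul_one]
  unfold sr
  ring

/-- the functional of the edge of a word -/
def mf (A : I → I → ℤ) (i : I) (ω : List I) : I → ℤ := ω.foldl (fire A) (m0 A i)

theorem mo_wordProd (i : I) (ω : List I) : mo cs h i (cs.wordProd ω) = mf A i ω := by
  induction ω using List.reverseRecOn with
  | nil => rw [cs.wordProd_nil, mo_one]; rfl
  | append_singleton ω j ih =>
    rw [cs.wordProd_append, cs.wordProd_singleton, mo_mul_simple, ih, mf, mf, List.foldl_append, List.foldl_cons,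
      List.foldl_nil]

theorem co_eq_of_mem {J : Set I} {i : I} (hi : i ∉ J) {w w' : W} (hw : w⁻¹ * w' ∈ WJ cs J) :
    co cs h i w⁻¹ = co cs h i w'⁻¹ := by
  have h1 := co_mul_left cs h hi hw w'⁻¹
  rwa [mul_assoc, mul_inv_cancel, mul_one] at h1

theorem mo_eq_of_mem [Finite W] {J : Set I} {i : I} (hi : i ∉ J) {w w' : W} (hw : w⁻¹ * w' ∈ WJ cs J)
    (he : rep cs h w (sr i) = rep cs h w' (sr i)) : mo cs h i w⁻¹ = mo cs h i w'⁻¹ := by
  have h1 : rep cs h (w'⁻¹ * w) (sr i) = sr i := by rw [rep_mul_apply, he, rep_inv_apply]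
  have h2 := conj_simple_of_rep h1
  have h3 : w'⁻¹ * w ∈ WJ cs J := by
    have := inv_mem hw
    rwa [mul_inv_rev, inv_inv] at this
  have h4 : cs.simple i * w'⁻¹ = w'⁻¹ * w * (cs.simple i * w⁻¹) := by
    calc cs.simple i * w'⁻¹ = (w'⁻¹ * w * cs.simple i * (w'⁻¹ * w)⁻¹) * w'⁻¹ := by rw [h2]
      _ = _ := by group
  funext m
  unfold mo
  rw [h4, co_mul_left cs h hi h3, co_eq_of_mem hi hw]

/-- **different functionals give different edges** -/
theorem not_sameEdge [Finite W] {J : Set I} {i : I} (hi : i ∉ J) {w w' : W}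
    (hne : mo cs h i w⁻¹ ≠ mo cs h i w'⁻¹) : ¬ SameEdge cs h J w i w' i := by
  rintro (⟨h1, h2⟩ | ⟨h1, h2⟩)
  · exact hne (mo_eq_of_mem hi h2 h1)
  · apply hne
    have h3 : rep cs h w (sr i) = rep cs h (w' * cs.simple i) (sr i) := by
      rw [rep_mul_apply, rep_simple_sr, map_neg, h1]
    rw [mo_eq_of_mem hi h2 h3, mul_inv_rev, inv_simple, mo_simple_mul]

/-- a node `i' ≠ i` outside `J` -/
theorem co_eq_of_sameEdge {J : Set I} {i i' : I} (hi' : i' ∉ J) (hii : i' ≠ i) {w w' : W}
    (he : SameEdge cs h J w i w' i) : co cs h i' w⁻¹ = co cs h i' w'⁻¹ := by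
  rcases he with ⟨-, h2⟩ | ⟨-, h2⟩
  · exact co_eq_of_mem hi' h2
  · rw [co_eq_of_mem hi' h2, mul_inv_rev, inv_simple]
    funext m
    change rep cs h (cs.simple i * w'⁻¹) (sr m) i' = rep cs h w'⁻¹ (sr m) i'
    rw [rep_mul_apply]
    exact rep_simple_apply cs h i _ i' hii

/-- the two ends of the same edge -/
theorem swap_of_sameEdge [Finite W] {J : Set I} {i : I} (hi : i ∉ J) {w w' : W}
    (he : SameEdge cs h J w i w' i) (hne : co cs h i w⁻¹ ≠ co cs h i w'⁻¹) :
    co cs h i w⁻¹ = co cs h i (cs.simple i * w'⁻¹) ∧ co cs h i (cs.simple i * w⁻¹) = co cs h i w'⁻¹ := by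
  rcases he with ⟨-, h2⟩ | ⟨h1, h2⟩
  · exact absurd (co_eq_of_mem hi h2) hne
  · have h3 := co_eq_of_mem (h := h) hi h2
    rw [mul_inv_rev, inv_simple] at h3
    refine ⟨h3, ?_⟩
    have h4 : rep cs h (w⁻¹ * (w' * cs.simple i)) (sr i) = sr i := by
      rw [rep_mul_apply, rep_mul_apply, rep_simple_sr, map_neg, ← h1, rep_inv_apply]
    have h5 := conj_simple_of_rep h4
    have h6 : cs.simple i * w⁻¹ = w⁻¹ * (w' * cs.simple i) * w'⁻¹ := by
      calc cs.simple i * w⁻¹ =
          (w⁻¹ * (w' * cs.simple i) * cs.simple i * (w⁻¹ * (w' * cs.simple i))⁻¹) * w⁻¹ := by rw [h5]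
        _ = w⁻¹ * w' * cs.simple i * (cs.simple i * (cs.simple i)⁻¹) * w'⁻¹ := by group
        _ = _ := by rw [mul_inv_cancel, mul_one, mul_assoc w⁻¹ w']
    rw [h6, co_mul_left cs h hi h2]

/-! ### independent sets -/

/-- a symmetric relation in which every element has at most one neighbour -/
theorem exists_indep {α : Type*} [Fintype α] (r : α → α → Prop) (hs : ∀ a b, r a b → r b a)
    (hr : ∀ a b c, a ≠ b → a ≠ c → r a b → r a c → b = c) :
    ∃ S : Finset α, (∀ a ∈ S, ∀ b ∈ S, a ≠ b → ¬ r a b) ∧ Fintype.card α ≤ 2 * S.card := by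
  classical
  obtain ⟨S, hS, hmax⟩ := Finset.exists_max_image
    ((Finset.univ : Finset (Finset α)).filter fun S => ∀ a ∈ S, ∀ b ∈ S, a ≠ b → ¬ r a b) Finset.card
    ⟨∅, by simp⟩
  rw [Finset.mem_filter] at hS
  refine ⟨S, hS.2, ?_⟩
  have h1 : ∀ a ∉ S, ∃ b ∈ S, r a b := by
    intro a ha
    by_contra hcon
    push Not at hcon
    have h2 := hmax (insert a S) (by
      rw [Finset.mem_filter]
      refine ⟨Finset.mem_univ _, fun x hx y hy hxy => ?_⟩
      rcases Finset.mem_insert.1 hx with hx' | hx'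
      · rcases Finset.mem_insert.1 hy with hy' | hy'
        · exact absurd (hx'.trans hy'.symm) hxy
        · rw [hx']; exact hcon y hy'
      · rcases Finset.mem_insert.1 hy with hy' | hy'
        · rw [hy']; exact fun h3 => hcon x hx' (hs _ _ h3)
        · exact hS.2 x hx' y hy' hxy)
    rw [Finset.card_insert_of_notMem ha] at h2
    omega
  choose! f hf hfr using h1
  have h2 : (Sᶜ : Finset α).card ≤ S.card := by
    refine Finset.card_le_card_of_injOn f (fun a ha => hf a (by simpa using ha)) ?_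
    intro a ha b hb hab
    have ha' : a ∉ S := by simpa using ha
    have hb' : b ∉ S := by simpa using hb
    refine hr (f a) a b (fun e => ha' (e ▸ hf a ha')) (fun e => hb' ?_) (hs _ _ (hfr a ha')) ?_
    · rw [← e]; exact hf a ha'
    · rw [hab]; exact hs _ _ (hfr b hb')
  have h3 := Finset.card_add_card_compl S
  omega

end comb

section main

variable {I W Y : Type*} [Fintype I] [DecidableEq I] [Group W] [Group Y] {M : CoxeterMatrix I}
  {cs : CoxeterSystem M W} {A : I → I → ℤ} {h : IsCartan M A} {p : ℕ} {T : Subgroup Y} {n : I → Y}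
  {X : (I → ℤ) → Subgroup Y} {k V : Type*} [Field k] [AddCommGroup V] [Module k V]
variable (R : RGD cs h p T n X) [Finite Y] [Finite W] [Fact p.Prime] [CharP k p]
  {ρ : Y →* Module.End k V} [FiniteDimensional k V] [Nontrivial V]
  (hirr : ∀ L : Submodule k V, Ivt ρ (GG cs h T X) L → L = ⊥ ∨ L = ⊤)
include R hirr

/-- **The general bound.** -/
theorem dim_ge_gen {α β : Type*} [Fintype α] [Fintype β] (v : α → W)
    (hv : ∀ a a', a ≠ a' → ∃ i, i ∉ Jx cs h X ρ ∧ co cs h i (v a) ≠ co cs h i (v a'))
    (u : β → W) (e : β → I) (he : ∀ b, e b ∉ Jx cs h X ρ)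
    (hu : ∀ b b', b ≠ b' → e b = e b' → mo cs h (e b) (u b) ≠ mo cs h (e b) (u b') ∨
      ∃ i, i ∉ Jx cs h X ρ ∧ i ≠ e b ∧ co cs h i (u b) ≠ co cs h i (u b')) :
    Fintype.card α * Module.finrank k (D cs h X ρ) + ∑ b, Module.finrank k (Io cs h T X ρ (e b)) ≤
      Module.finrank k V := by
  refine dim_ge R hirr (fun a => (v a)⁻¹) (fun a a' haa hmem => ?_) (fun b => (u b)⁻¹) e fun b b' hbb hsame => ?_
  · obtain ⟨i, hi, hne⟩ := hv a a' haa
    apply hne
    have h1 := co_eq_of_mem (h := h) hi hmem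
    rwa [inv_inv, inv_inv] at h1
  · have h1 := sameEdge_type (he b') hsame
    rcases hu b b' hbb h1 with h2 | ⟨i, hi, hne, h2⟩
    · rw [← h1] at hsame
      exact not_sameEdge (he b) (w := (u b)⁻¹) (w' := (u b')⁻¹) (by rwa [inv_inv, inv_inv]) hsame
    · rw [← h1] at hsame
      apply h2
      have h3 := co_eq_of_sameEdge hi hne hsame
      rwa [inv_inv, inv_inv] at h3

/-- **One node.** -/
theorem dim_ge_orbit {i : I} (hi : i ∉ Jx cs h X ρ) {α β : Type*} [Fintype α] [Fintype β] (v : α → W)
    (hv : Function.Injective fun a => co cs h i (v a)) (u : β → W)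
    (hu : Function.Injective fun b => mo cs h i (u b)) :
    Fintype.card α * Module.finrank k (D cs h X ρ) + Fintype.card β * Module.finrank k (Io cs h T X ρ i) ≤
      Module.finrank k V := by
  have h1 := dim_ge_gen R hirr v (fun a a' haa => ⟨i, hi, fun h2 => haa (hv h2)⟩) u (fun _ => i) (fun _ => hi)
    (fun b b' hbb _ => Or.inl fun h2 => hbb (hu h2))
  rwa [Finset.sum_const, Finset.card_univ, smul_eq_mul] at h1

/-- **Two nodes.** -/
theorem dim_ge_orbit_two {i j : I} (hi : i ∉ Jx cs h X ρ) (hj : j ∉ Jx cs h X ρ) (hij : i ≠ j)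
    {α β γ : Type*} [Fintype α] [Fintype β] [Fintype γ] (v : α → W)
    (hv : Function.Injective fun a => (co cs h i (v a), co cs h j (v a))) (u : β → W)
    (hu : Function.Injective fun b => (mo cs h i (u b), co cs h j (u b))) (u' : γ → W)
    (hu' : Function.Injective fun b => (mo cs h j (u' b), co cs h i (u' b))) :
    Fintype.card α * Module.finrank k (D cs h X ρ) + (Fintype.card β * Module.finrank k (Io cs h T X ρ i) +
      Fintype.card γ * Module.finrank k (Io cs h T X ρ j)) ≤ Module.finrank k V := by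
  have h1 := dim_ge_gen R hirr v (fun a a' haa => by
      by_contra hcon
      push Not at hcon
      exact haa (hv (Prod.ext (hcon i hi) (hcon j hj))))
    (β := β ⊕ γ) (Sum.elim u u') (Sum.elim (fun _ => i) (fun _ => j))
    (by rintro (b | b) <;> assumption)
    (by
      rintro (b | b) (b' | b') hbb he
      · by_contra hcon
        push Not at hcon
        exact hbb (congrArg Sum.inl (hu (Prod.ext hcon.1 (hcon.2 j hj hij.symm))))
      · exact absurd he hij
      · exact absurd he hij.symm
      · by_contra hcon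
        push Not at hcon
        exact hbb (congrArg Sum.inr (hu' (Prod.ext hcon.1 (hcon.2 i hi hij)))))
  have e1 : ∑ b : β ⊕ γ, Module.finrank k (Io cs h T X ρ (Sum.elim (fun _ => i) (fun _ => j) b)) =
      Fintype.card β * Module.finrank k (Io cs h T X ρ i) + Fintype.card γ * Module.finrank k (Io cs h T X ρ j) := by
    rw [Fintype.sum_sum_type]
    have e2 : ∑ _b : β, Module.finrank k (Io cs h T X ρ i) = Fintype.card β * Module.finrank k (Io cs h T X ρ i) := by
      rw [Finset.sum_const, Finset.card_univ, smul_eq_mul]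
    have e3 : ∑ _b : γ, Module.finrank k (Io cs h T X ρ j) = Fintype.card γ * Module.finrank k (Io cs h T X ρ j) := by
      rw [Finset.sum_const, Finset.card_univ, smul_eq_mul]
    exact congrArg₂ (· + ·) e2 e3
  rwa [e1] at h1

omit R hirr [Finite Y] [Finite W] [Fact p.Prime] [CharP k p] [FiniteDimensional k V] [Nontrivial V] in
theorem injective_of_nodup {B β : Type*} {f : B → β} {L : List B} (hL : (L.map f).Nodup) :
    Function.Injective fun a : Fin L.length => f (L.get a) := by
  intro a b hab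
  have h2 := List.nodup_iff_injective_get.1 hL
  have h3 : (⟨a, by rw [List.length_map]; exact a.2⟩ : Fin (L.map f).length) =
      ⟨b, by rw [List.length_map]; exact b.2⟩ := by
    apply h2
    simpa using hab
  have h4 := congrArg Fin.val h3
  exact Fin.ext h4

/-- **One node, words.** -/
theorem dim_ge_list {i : I} (hi : i ∉ Jx cs h X ρ) (L E : List (List I)) (hL : (L.map (cf A i)).Nodup)
    (hE : (E.map (mf A i)).Nodup) :
    L.length * Module.finrank k (D cs h X ρ) + E.length * Module.finrank k (Io cs h T X ρ i) ≤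
      Module.finrank k V := by
  have h1 := dim_ge_orbit R hirr hi (fun a : Fin L.length => cs.wordProd (L.get a))
    (by simpa only [co_wordProd] using injective_of_nodup hL) (fun a : Fin E.length => cs.wordProd (E.get a))
    (by simpa only [mo_wordProd] using injective_of_nodup hE)
  rwa [Fintype.card_fin, Fintype.card_fin] at h1

/-- **Two nodes, words.** -/
theorem dim_ge_list_two {i j : I} (hi : i ∉ Jx cs h X ρ) (hj : j ∉ Jx cs h X ρ) (hij : i ≠ j)
    (L E E' : List (List I)) (hL : (L.map fun ω => (cf A i ω, cf A j ω)).Nodup)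
    (hE : (E.map fun ω => (mf A i ω, cf A j ω)).Nodup) (hE' : (E'.map fun ω => (mf A j ω, cf A i ω)).Nodup) :
    L.length * Module.finrank k (D cs h X ρ) + (E.length * Module.finrank k (Io cs h T X ρ i) +
      E'.length * Module.finrank k (Io cs h T X ρ j)) ≤ Module.finrank k V := by
  have h1 := dim_ge_orbit_two R hirr hi hj hij (fun a : Fin L.length => cs.wordProd (L.get a))
    (by simpa only [co_wordProd] using injective_of_nodup hL) (fun a : Fin E.length => cs.wordProd (E.get a))
    (by simpa only [mo_wordProd, co_wordProd] using injective_of_nodup hE)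
    (fun a : Fin E'.length => cs.wordProd (E'.get a))
    (by simpa only [mo_wordProd, co_wordProd] using injective_of_nodup hE')
  rwa [Fintype.card_fin, Fintype.card_fin, Fintype.card_fin] at h1

/-- **Every vertex is on an edge**: `N d_i ≤ 2 dim V`. -/
theorem edge_half {i : I} (hi : i ∉ Jx cs h X ρ) {α : Type*} [Fintype α] (v : α → W)
    (hv : Function.Injective fun a => co cs h i (v a)) :
    Fintype.card α * Module.finrank k (Le cs h T X ρ {i}) ≤ 2 * Module.finrank k V := by
  classical
  obtain ⟨S, hS, hcard⟩ := exists_indep (fun a b => co cs h i (v a) = co cs h i (cs.simple i * v b) ∧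
      co cs h i (cs.simple i * v a) = co cs h i (v b))
    (fun a b hab => ⟨hab.2.symm, hab.1.symm⟩) (fun a b c _ _ h1 h2 => hv (h1.2.symm.trans h2.2))
  have h1 := dim_ge R hirr (fun a => (v a)⁻¹) (fun a a' haa hmem => by
      have h1 := co_eq_of_mem (h := h) hi hmem
      rw [inv_inv, inv_inv] at h1
      exact haa (hv h1)) (fun b : S => (v b.1)⁻¹) (fun _ => i) (fun b b' hbb hsame => by
      have hne : b.1 ≠ b'.1 := fun e => hbb (Subtype.ext e)
      have h1 := swap_of_sameEdge hi hsame (by rw [inv_inv, inv_inv]; exact fun e => hne (hv e))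
      rw [inv_inv, inv_inv] at h1
      exact hS b.1 b.2 b'.1 b'.2 hne h1)
  have h2 := finrank_Io R hirr i
  rw [Finset.sum_const, Finset.card_univ, smul_eq_mul, Fintype.card_coe] at h1
  set c := Fintype.card α
  set s := S.card
  set δ := Module.finrank k (D cs h X ρ)
  set ε := Module.finrank k (Io cs h T X ρ i)
  calc c * Module.finrank k (Le cs h T X ρ {i}) ≤ c * (ε + 2 * δ) := Nat.mul_le_mul_left _ h2
    _ = c * ε + 2 * (c * δ) := by ring
    _ ≤ (2 * s) * ε + 2 * (c * δ) := Nat.add_le_add_right (Nat.mul_le_mul_right _ hcard) _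
    _ = 2 * (c * δ + s * ε) := by ring
    _ ≤ _ := Nat.mul_le_mul_left _ h1

end main

end Cfsg.Agent.H650.Ppd
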