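import Cfsg.Agent.H650.Ppd.Edge
import Cfsg.Agent.H948.Ppd.NdWitt

/-!
# The nodes of the symplectic groups (helper650, TEAM PPD)

* `Nd.ofH948` : the two definitions of `Nd` agree;
* `nd_L` : the last node of the symplectic frame;
* **`nd_Sp`** : all the nodes.
-/

set_option autoImplicit false
set_option linter.unusedSectionVars false

namespace Cfsg.Agent.H650.Ppd

open Cfsg.Agent.ChevalleyStructure.CoxeterGeom Cfsg.Agent.Tits.Roots
open Cfsg.Agent.Nodes.Comb Cfsg.Agent.Nodes.Reps Cfsg.Agent.Nodes.WittRoot Cfsg.Agent.Nodes.BNOf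
open Cfsg.Agent.Nodes.WittRGD Cfsg.Agent.Nodes.TypeC
open Cfsg.Agent.TitsThree.Siegel Cfsg.Agent.TitsThree.WittFrame Cfsg.Agent.TitsThree.SpIdent
open Cfsg.Agent.H62.FrameSL (phiL phiL_range phiL_apply linL_apply phiL_up phiL_lo)
open Cfsg.Agent.H911.SLTwo (U Lo hh)
open scoped MatrixGroups

theorem Nd.ofH948 {I Y : Type*} [DecidableEq I] [Group Y] {T : Subgroup Y} {X : (I → ℤ) → Subgroup Y} {i : I}
    {E : Type*} [Field E] {σ : SL(2, E) →* Y} (h : H948.Ppd.Nd T X i σ) : Nd T X i σ := ⟨h.up, h.lo, h.tor⟩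

variable {m : ℕ} {F : Type*} [Field F]

theorem mono_phiL_hh (i : Fin m) (s : Fˣ) : Mono (frame m F) (phiL (frame m F) i (hh s)) id := by
  have hs0 : (s : F) ≠ 0 := s.ne_zero
  have hs1 : ((s⁻¹ : Fˣ) : F) ≠ 0 := (s⁻¹).ne_zero
  have hε := (form m F).ε_ne
  rintro ⟨k, b⟩
  rw [id, phiL_apply]
  by_cases hki : k = i
  · subst hki
    cases b
    · refine ⟨((s⁻¹ : Fˣ) : F), hs1, ?_⟩
      rw [linL_apply, H62.FrameSL.hf, H62.FrameSL.hs]
      simp only [H911.SLTwo.hh00, H911.SLTwo.hh01, H911.SLTwo.hh10, H911.SLTwo.hh11,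
        mul_zero, inv_mul_cancel₀ hε, mul_one, add_zero, zero_smul]
      module
    · refine ⟨s, hs0, ?_⟩
      rw [linL_apply, H62.FrameSL.ht, H62.FrameSL.hs]
      simp only [H911.SLTwo.hh00, H911.SLTwo.hh01, H911.SLTwo.hh10, H911.SLTwo.hh11,
        mul_zero, mul_one, add_zero, zero_smul]
      module
  · refine ⟨1, one_ne_zero, ?_⟩
    rw [linL_apply, H62.FrameSL.hn (frame m F) hki, H62.FrameSL.hn (frame m F) hki]
    simp only [mul_zero, add_zero, zero_smul, one_smul]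

theorem mem_ZG {a : Fin m × Bool} {g : (Fin m ⊕ Fin m → F) ≃ₗ[F] (Fin m ⊕ Fin m → F)} :
    g ∈ ZG (frame m F) a ↔ ∃ c : F, g = (frame m F).Z a (adm c) := by
  constructor
  · rintro ⟨q, rfl⟩
    exact ⟨q.c, by rw [← eq_adm]⟩
  · rintro ⟨c, rfl⟩
    exact ⟨_, rfl⟩

variable {G0 : Subgroup ((Fin m ⊕ Fin m → F) ≃ₗ[F] (Fin m ⊕ Fin m → F))}

/-- **The last node of the symplectic frame.** -/
theorem nd_L (hle : ∀ x, Nodes.WittRoot.rg (frame m F) x ≤ G0) {i : Fin m} (hi : ¬ (i : ℕ) + 1 < m) :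
    ∃ σ : SL(2, F) →* G0, Nd ((Tor (frame m F) G0).subgroupOf G0)
      (fun x => (Nodes.WittRoot.rg (frame m F) x).subgroupOf G0) i σ := by
  have hnx : nx i = (i, true) := by unfold nx; rw [dif_neg hi]
  obtain ⟨σ, -, h⟩ := H948.Ppd.exists_nd (Fr := frame m F) (G0 := G0) hle (i := i) (phiL (frame m F) i) (fun y => by
    rw [Nodes.WittRGD.rg_sr, hnx, PG_self, mem_ZG]
    constructor
    · rintro ⟨t, e⟩
      exact ⟨-t, (phiL_up i (-t)).trans (by rw [_root_.neg_neg, e])⟩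
    · rintro ⟨t, rfl⟩
      exact ⟨-t, phiL_up i t⟩) (fun y => by
    rw [Nodes.WittRGD.rg_neg_sr, hnx, PG_self, mem_ZG]
    constructor
    · rintro ⟨t, e⟩
      exact ⟨t, (phiL_lo i t).trans e.symm⟩
    · rintro ⟨t, rfl⟩
      exact ⟨t, phiL_lo i t⟩) (mono_phiL_hh i)
  exact ⟨σ, Nd.ofH948 h⟩

/-- **The nodes of the symplectic groups.** -/
theorem nd_Sp (hle : ∀ x, Nodes.WittRoot.rg (frame m F) x ≤ G0) (i : Fin m) :
    ∃ σ : SL(2, F) →* G0, Nd ((Tor (frame m F) G0).subgroupOf G0)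
      (fun x => (Nodes.WittRoot.rg (frame m F) x).subgroupOf G0) i σ := by
  by_cases hi : (i : ℕ) + 1 < m
  · obtain ⟨σ, h⟩ := H948.Ppd.nd_long (Fr := frame m F) hle hi
    exact ⟨σ, Nd.ofH948 h⟩
  · exact nd_L hle hi

end Cfsg.Agent.H650.Ppd
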