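import Cfsg.Agent.H905.MdR
import Cfsg.Agent.H875.PslTwo

/-!
# The edges of simple modules in the defining characteristic (helper650)

`R : RGD cs h p T n X`, `ρ` simple over `k` of characteristic `p`, `dim V^U = 1`, `i ∉ J`.

* `Nd T X i σ` : `σ : SL_2(E) → Y` maps the root subgroups onto `X_{α_i}`, `X_{-α_i}` and the diagonal matrices into `T`;
* **`exists_edge_model`** : the `SL_2(E)`-module `Le {i}` has a model `L(r)`, and `χ(σ(diag(t, t⁻¹))) = j(t) ^ r`;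
* `exists_digits` : `|E| = p ^ f`, `d ∣ f`, `|E| - 1 ∣ r (p ^ d - 1)` imply `r = r₀ (1 + p ^ d + ...)`, `|SS p r| = |SS p r₀| ^ (f / d)`;
* **`edge_data`**, **`edge_pow`** : `φ : Y → GL(ι, F)` with absolutely irreducible image, `|F| = p ^ a`, `|E| = p ^ f`,
  `s * gcd a f = f`: `dim Le {i} = m ^ s`, `m ≥ 2`.
-/

set_option autoImplicit false
set_option linter.unusedSectionVars false
set_option linter.style.haveILetI false

namespace Cfsg.Agent.H650.Ppd

open Matrix CoxeterSystem Cfsg.Agent.ChevalleyStructure.CoxeterGeom Cfsg.Agent.Tits.Roots Cfsg.Agent.Tits.Core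
  Cfsg.Agent.Tits.Exchange Cfsg.Agent.Nodes.Reps Cfsg.Agent.Nodes.BNOf Cfsg.Agent.Nodes.StabComb
  Cfsg.Agent.Nodes.Bruhat Cfsg.Agent.Nodes.OppDec Cfsg.Agent.Nodes.LeviDec Cfsg.Agent.KFacts.RgdOpp
  Cfsg.Agent.Omega.CR Cfsg.Agent.Omega.FOne.Lift.Sd Cfsg.Agent.H905.Md
open Cfsg Cfsg.Geo
open Cfsg.Agent.H911 (lin)
open Cfsg.Agent.H911.SLTwo (U Lo hh U_mul Lo_mul U_zero Lo_zero)
open Cfsg.Agent.H875.Fn (IsModel SS)

/-! ### generation of `SL_2` -/

section gen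

variable {E : Type*} [Field E]

/-- `SL_2(E)` is generated by the root subgroups -/
theorem mem_of_UL {H : Subgroup (SpecialLinearGroup (Fin 2) E)} (hU : ∀ t, U t ∈ H) (hL : ∀ t, Lo t ∈ H)
    (g : SpecialLinearGroup (Fin 2) E) : g ∈ H := by
  have key : ∀ g : SpecialLinearGroup (Fin 2) E, g.1 1 0 ≠ 0 → g ∈ H := by
    intro g hc
    have hdet := H911.SLTwo.det_eq g
    have h1 : g = U ((g.1 0 0 - 1) / g.1 1 0) * Lo (g.1 1 0) * U ((g.1 1 1 - 1) / g.1 1 0) := by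
      apply H911.SLTwo.ext' <;> simp only [H911.SLTwo.m00, H911.SLTwo.m01, H911.SLTwo.m10, H911.SLTwo.m11,
        H911.SLTwo.U00, H911.SLTwo.U01, H911.SLTwo.U10, H911.SLTwo.U11, H911.SLTwo.Lo00, H911.SLTwo.Lo01,
        H911.SLTwo.Lo10, H911.SLTwo.Lo11]
      · field_simp
        ring
      · field_simp
        linear_combination -hdet
      · ring
      · field_simp
        ring
    rw [h1]
    exact H.mul_mem (H.mul_mem (hU _) (hL _)) (hU _)
  by_cases hc : g.1 1 0 = 0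
  · have hdet := H911.SLTwo.det_eq g
    rw [hc, mul_zero, sub_zero] at hdet
    have h0 : g.1 0 0 ≠ 0 := left_ne_zero_of_mul_eq_one hdet
    have h2 : (Lo 1 * g).1 1 0 ≠ 0 := by
      rw [H911.SLTwo.m10, H911.SLTwo.Lo10, H911.SLTwo.Lo11, hc, one_mul, mul_zero, add_zero]
      exact h0
    have h3 : g = (Lo 1)⁻¹ * (Lo 1 * g) := by group
    rw [h3]
    exact H.mul_mem (H.inv_mem (hL 1)) (key _ h2)
  · exact key g hc

end gen

/-! ### restriction to an invariant subspace -/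

section rst

variable {G k V : Type*} [Group G] [Field k] [AddCommGroup V] [Module k V]

/-- the representation on an invariant subspace -/
def rst (ρ : G →* Module.End k V) (N : Submodule k V) (hN : ∀ g, ∀ v ∈ N, ρ g v ∈ N) : G →* Module.End k N where
  toFun g := (ρ g).restrict (hN g)
  map_one' := by
    ext v
    simp
  map_mul' g g' := by
    ext v
    simp

theorem rst_apply (ρ : G →* Module.End k V) (N : Submodule k V) (hN : ∀ g, ∀ v ∈ N, ρ g v ∈ N) (g : G) (v : N) :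
    ((rst ρ N hN g v : N) : V) = ρ g v := rfl

end rst

/-! ### the nodes -/

section node

variable {I W Y : Type*} [Fintype I] [DecidableEq I] [Group W] [Group Y] {M : CoxeterMatrix I}
  {cs : CoxeterSystem M W} {A : I → I → ℤ} {h : IsCartan M A} {p : ℕ} {T : Subgroup Y} {n : I → Y}
  {X : (I → ℤ) → Subgroup Y} {E : Type*} [Field E]

/-- `σ : SL_2(E) → Y` maps the root subgroups onto `X_{α_i}`, `X_{-α_i}` and the diagonal matrices into `T` -/
structure Nd (T : Subgroup Y) (X : (I → ℤ) → Subgroup Y) (i : I) (σ : SpecialLinearGroup (Fin 2) E →* Y) : Prop where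
  up : ∀ x, x ∈ X (sr i) ↔ ∃ t, σ (U t) = x
  lo : ∀ x, x ∈ X (-sr i) ↔ ∃ t, σ (Lo t) = x
  tor : ∀ s : Eˣ, σ (hh s) ∈ T

namespace Nd

variable {i : I} {σ : SpecialLinearGroup (Fin 2) E →* Y}

theorem mem_LJ (N : Nd T X i σ) (g : SpecialLinearGroup (Fin 2) E) : σ g ∈ LJ cs h T X ({i} : Set I) := by
  refine Subgroup.mem_comap.1 (mem_of_UL (H := (LJ cs h T X ({i} : Set I)).comap σ) (fun t => ?_) (fun t => ?_) g)
  · exact X_le_LJ (sr_mem_Roots i) ((N.up _).2 ⟨t, rfl⟩)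
  · exact X_le_LJ (RootsJ.neg (sr_mem_Roots i)) ((N.lo _).2 ⟨t, rfl⟩)

end Nd

variable {k V : Type*} [Field k] [AddCommGroup V] [Module k V]
variable (R : RGD cs h p T n X)
  {ρ : Y →* Module.End k V} {i : I} {σ : SpecialLinearGroup (Fin 2) E →* Y}

theorem edge_ivt (N : Nd T X i σ) (g : SpecialLinearGroup (Fin 2) E) (v : V) (hv : v ∈ Le cs h T X ρ {i}) :
    (ρ.comp σ) g v ∈ Le cs h T X ρ {i} := Ivt_Sp _ _ _ (N.mem_LJ g) v hv

/-- the `SL_2(E)`-module of the edge -/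
def edge (cs : CoxeterSystem M W) (h : IsCartan M A) (ρ : Y →* Module.End k V) (N : Nd T X i σ) :
    SpecialLinearGroup (Fin 2) E →* Module.End k (Le cs h T X ρ {i}) :=
  rst (ρ.comp σ) (Le cs h T X ρ {i}) (edge_ivt N)

theorem edge_apply (N : Nd T X i σ) (g : SpecialLinearGroup (Fin 2) E) (v : Le cs h T X ρ {i}) :
    ((edge cs h ρ N g v : Le cs h T X ρ {i}) : V) = ρ (σ g) v := rfl

include R in
/-- the vectors of the edge fixed by `X_i` are in `V^U` -/
theorem mem_D_of_fix [Finite Y] [Finite W] [Fact p.Prime] [CharP k p] {v : V} (hv : v ∈ Le cs h T X ρ {i}) (hx : ∀ x ∈ X (sr i), ρ x v = v) : v ∈ D cs h X ρ := by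
  intro g hg
  obtain ⟨u, hu, x, hxx, rfl⟩ := (mem_U_iff R (J := {i})).1 hg
  rw [rho_mul, Le_le_fx R {i} hv x hxx]
  have h1 : UJ cs h X ({i} : Set I) ≤ X (sr i) := RGD.Sup_le fun y hy => by
    rcases mem_RootsJ_single (PosJ_subset _ hy) with h2 | h2
    · rw [h2]
    · exfalso
      have h3 : (0 : ℤ) ≤ (-sr i : I → ℤ) i := by rw [← h2]; exact hy.2.1 i
      rw [Pi.neg_apply, sr_self] at h3
      omega
  exact hx u (h1 hu)

end node

/-! ### the model of the edge -/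

section main

variable {I W Y : Type*} [Fintype I] [DecidableEq I] [Group W] [Group Y] {M : CoxeterMatrix I}
  {cs : CoxeterSystem M W} {A : I → I → ℤ} {h : IsCartan M A} {p : ℕ} {T : Subgroup Y} {n : I → Y}
  {X : (I → ℤ) → Subgroup Y} {E : Type*} [Field E] [Fintype E]
  {k V : Type*} [Field k] [AddCommGroup V] [Module k V]
variable (R : RGD cs h p T n X) [Finite Y] [Finite W] [hp : Fact p.Prime] [CharP k p] [CharP E p]
  {ρ : Y →* Module.End k V} [FiniteDimensional k V] [Nontrivial V]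
  (hirr : ∀ L : Submodule k V, Ivt ρ (GG cs h T X) L → L = ⊥ ∨ L = ⊤)
  (hD : Module.finrank k (D cs h X ρ) = 1) {i : I} {σ : SpecialLinearGroup (Fin 2) E →* Y} (N : Nd T X i σ)

omit [Finite Y] [Finite W] [FiniteDimensional k V] [Nontrivial V] in
include hD in
theorem exists_smul_of_mem {v w : V} (hv : v ∈ D cs h X ρ) (hv0 : v ≠ 0) (hw : w ∈ D cs h X ρ) :
    ∃ a : k, a • v = w := by
  obtain ⟨a, ha⟩ := (finrank_eq_one_iff_of_nonzero' (⟨v, hv⟩ : D cs h X ρ)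
    (fun e => hv0 (congrArg Subtype.val e))).1 hD ⟨w, hw⟩
  exact ⟨a, congrArg Subtype.val ha⟩

include R hirr hD

theorem edge_irr (L : Submodule k (Le cs h T X ρ {i})) (hL : ∀ g, L ≤ L.comap (edge cs h ρ N g)) :
    L = ⊥ ∨ L = ⊤ := by
  rcases eq_or_ne L ⊥ with h0 | h0
  · exact Or.inl h0
  right
  have hnt : Nontrivial L := Submodule.nontrivial_iff_ne_bot.2 h0
  obtain ⟨w, hw0, hw⟩ := H875.Fn.exists_fixed (rst (edge cs h ρ N) L (fun g v hv => hL g hv)) p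
  have hv0 : ((w : Le cs h T X ρ {i}) : V) ≠ 0 := fun e => hw0 (Subtype.ext (Subtype.ext e))
  have hvD : ((w : Le cs h T X ρ {i}) : V) ∈ D cs h X ρ := by
    refine mem_D_of_fix R (w : Le cs h T X ρ {i}).2 fun x hx => ?_
    obtain ⟨t, rfl⟩ := (N.up x).1 hx
    exact congrArg (fun z : L => ((z : Le cs h T X ρ {i}) : V)) (hw t)
  have key : Sp ρ (X (-sr i)) (D cs h X ρ) ≤ L.map (Le cs h T X ρ {i}).subtype := by
    unfold Sp
    rw [Submodule.span_le]
    rintro _ ⟨b, hb, m, hm, rfl⟩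
    obtain ⟨t, rfl⟩ := (N.lo b).1 hb
    obtain ⟨a, rfl⟩ := exists_smul_of_mem hD hvD hv0 hm
    exact ⟨edge cs h ρ N (Lo t) (a • (w : Le cs h T X ρ {i})), hL _ (L.smul_mem _ w.2), rfl⟩
  rw [eq_top_iff]
  rintro ⟨x, hx⟩ -
  have hx' := hx
  rw [Le_single R hirr i] at hx'
  obtain ⟨y, hy, hyx⟩ := key hx'
  have h1 : y = ⟨x, hx⟩ := Subtype.ext hyx
  rw [← h1]
  exact hy

omit hirr in
theorem edge_fix (hi : i ∉ Jx cs h X ρ) (v : Le cs h T X ρ {i}) (hv : ∀ g, edge cs h ρ N g v = v) : v = 0 := by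
  by_contra hv0
  apply hi
  have hvD : (v : V) ∈ D cs h X ρ := by
    refine mem_D_of_fix R v.2 fun x hx => ?_
    obtain ⟨t, rfl⟩ := (N.up x).1 hx
    exact congrArg Subtype.val (hv (U t))
  intro x hx w hw
  obtain ⟨t, rfl⟩ := (N.lo x).1 hx
  obtain ⟨a, rfl⟩ := exists_smul_of_mem hD hvD (fun e => hv0 (Subtype.ext e)) hw
  rw [map_smul]
  congr 1
  exact congrArg Subtype.val (hv (Lo t))

/-- **The model of the edge.** -/
theorem exists_edge_model (hi : i ∉ Jx cs h X ρ) (j : E →+* k) {c : V} (hc : c ∈ D cs h X ρ) (hc0 : c ≠ 0)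
    {χ : Y → k} (hχ : ∀ t ∈ T, ρ t c = χ t • c) :
    ∃ r Φ, IsModel j (edge cs h ρ N) r Φ ∧ ∀ s : Eˣ, χ (σ (hh s)) = j (s : E) ^ r := by
  have hnt : Nontrivial (Le cs h T X ρ {i}) :=
    ⟨⟨⟨c, D_le_Le R {i} hc⟩, 0, fun e => hc0 (congrArg Subtype.val e)⟩⟩
  obtain ⟨r, Φ, hM⟩ := H875.Fn.exists_isModel j (edge cs h ρ N) p (edge_irr R hirr hD N) (edge_fix R hD N hi)
  refine ⟨r, Φ, hM, fun s => ?_⟩
  obtain ⟨v, hv0, -, hU, hw, hun⟩ := hM.exists_hw
  obtain ⟨a, ha⟩ := hun ⟨c, D_le_Le R {i} hc⟩ (fun t => Subtype.ext (X_fix R ρ hc i ((N.up _).2 ⟨t, rfl⟩)))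
  have h1 : edge cs h ρ N (hh s) ⟨c, D_le_Le R {i} hc⟩ = (j (s : E) ^ r) • ⟨c, D_le_Le R {i} hc⟩ := by
    rw [ha, map_smul, hw, smul_comm]
  have h2 : ρ (σ (hh s)) c = (j (s : E) ^ r) • c := congrArg Subtype.val h1
  rw [hχ _ (N.tor s)] at h2
  exact smul_left_injective k hc0 h2

end main

/-! ### digits -/

section digits

variable (p : ℕ) [hp : Fact p.Prime]

theorem exists_digits {f d s r : ℕ} (hd : d ≠ 0) (hf : f = d * s) (hr0 : r ≠ 0) (hr : r ≤ p ^ f - 1)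
    (hdvd : p ^ f - 1 ∣ r * (p ^ d - 1)) :
    ∃ r₀, r₀ ≠ 0 ∧ r₀ < p ^ d ∧ r = r₀ * ∑ l ∈ Finset.range s, (p ^ d) ^ l ∧ (SS p r).card = (SS p r₀).card ^ s := by
  have hp1 := hp.out.one_lt
  have hQ2 : 1 < p ^ d := Nat.one_lt_pow hd hp1
  have hgeo : (∑ l ∈ Finset.range s, (p ^ d) ^ l) * (p ^ d - 1) = p ^ f - 1 := by
    rw [hf, pow_mul]
    have h1 := Nat.geomSum_eq (m := p ^ d) hQ2 s
    rw [h1]
    refine Nat.div_mul_cancel ?_
    have h2 := Nat.sub_dvd_pow_sub_pow (p ^ d) 1 s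
    rwa [one_pow] at h2
  set S := ∑ l ∈ Finset.range s, (p ^ d) ^ l with hS
  have hQpos : 0 < p ^ d - 1 := by omega
  have hSr : S ∣ r := by
    rw [← hgeo] at hdvd
    exact (Nat.mul_dvd_mul_iff_right hQpos).1 hdvd
  obtain ⟨r₀, hr₀⟩ := hSr
  have h0 : r₀ ≠ 0 := by
    rintro rfl
    exact hr0 (by rw [hr₀, mul_zero])
  have hSpos : 0 < S := by
    rcases Nat.eq_zero_or_pos S with h1 | h1
    · exact absurd (by rw [hr₀, h1, zero_mul]) hr0
    · exact h1
  have h2 : r₀ < p ^ d := by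
    have h3 : S * r₀ ≤ S * (p ^ d - 1) := by
      rw [← hr₀, hgeo]
      exact hr
    have h4 := Nat.le_of_mul_le_mul_left h3 hSpos
    omega
  refine ⟨r₀, h0, h2, by rw [hr₀, mul_comm], ?_⟩
  rw [hr₀, mul_comm, hS]
  exact H875.Fn.card_SS_geom h2 s

end digits

/-! ### linear groups -/

section Fn

variable {I W Y : Type*} [Fintype I] [DecidableEq I] [Group W] [Group Y] {M : CoxeterMatrix I}
  {cs : CoxeterSystem M W} {A : I → I → ℤ} {h : IsCartan M A} {p : ℕ} {T : Subgroup Y} {n : I → Y}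
  {X : (I → ℤ) → Subgroup Y} {F : Type*} [Field F] {ι : Type} [Fintype ι] [DecidableEq ι]
  {P : Subgroup (GL ι F)} {E : Type*} [Field E] [Fintype E]

variable (R : RGD cs h p T n X) [Finite Y] [Finite W] [hp : Fact p.Prime] [CharP F p] [CharP E p] [Nonempty ι]
  (hG : GG cs h T X = ⊤) (hT : ∀ s ∈ T, ∀ t ∈ T, s * t = t * s) {φ : Y →* GL ι F} (hφ : φ.range = P)
  (hP : ActsAbsolutelyIrreducibly (matrixSet P)) {i : I} {σ : SpecialLinearGroup (Fin 2) E →* Y} (N : Nd T X i σ)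
include R hG hT hφ hP N

/-- **The edges of a linear group, all data.** `|F| = p ^ a`, `|E| = p ^ f`, `d = gcd a f`, `s = f / d`. -/
theorem edge_data (hi : i ∉ Jx cs h X (lin (acRep φ))) {a f s : ℕ} (hF : Nat.card F = p ^ a)
    (hE : Nat.card E = p ^ f) (hs : s * Nat.gcd a f = f) (j : E →+* AlgebraicClosure F)
    {c : ι → AlgebraicClosure F} (hc : c ∈ D cs h X (lin (acRep φ))) (hc0 : c ≠ 0) {χ : Y → AlgebraicClosure F}
    (hχ : ∀ t ∈ T, lin (acRep φ) t c = χ t • c) :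
    ∃ r₀ : ℕ, r₀ ≠ 0 ∧ r₀ < p ^ Nat.gcd a f ∧
      (∀ t : Eˣ, χ (σ (hh t)) = j (t : E) ^ (r₀ * ∑ l ∈ Finset.range s, (p ^ Nat.gcd a f) ^ l)) ∧
      Module.finrank (AlgebraicClosure F) (Le cs h T X (lin (acRep φ)) {i}) = (SS p r₀).card ^ s := by
  have hchar : CharP (AlgebraicClosure F) p := charP_of_injective_algebraMap (algebraMap F _).injective p
  have hirr := ac_irr R hG hT hφ hP
  have hD := finrank_D R hirr hT
  obtain ⟨r, Φ, hM, hr⟩ := exists_edge_model R hirr hD N hi j hc hc0 hχ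
  have hfin : Finite F := by
    by_contra hcon
    rw [not_finite_iff_infinite] at hcon
    have h1 : Nat.card F = 0 := Nat.card_eq_zero_of_infinite
    rw [h1] at hF
    exact absurd hF.symm (pow_ne_zero _ hp.out.ne_zero)
  have := Fintype.ofFinite F
  -- the weight is fixed by `x ↦ x ^ |F|`
  have hw : ∀ t : Eˣ, (j (t : E) ^ p ^ a) ^ r = j (t : E) ^ r := by
    intro t
    obtain ⟨b, hb⟩ := chi_mem R hG hφ hP hc hc0 hχ (N.tor t)
    rw [hr] at hb
    rw [← pow_mul, mul_comm, pow_mul, ← hb, ← map_pow]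
    congr 1
    rw [← hF, Nat.card_eq_fintype_card]
    exact FiniteField.pow_card b
  have hd1 := H875.Fn.dvd_of_pow_eq hw (Nat.one_le_pow _ _ hp.out.pos)
  have hEf : Fintype.card E = p ^ f := by rw [← Nat.card_eq_fintype_card, hE]
  have hf0 : f ≠ 0 := by
    rintro rfl
    rw [pow_zero] at hEf
    have := Fintype.one_lt_card (α := E)
    omega
  rw [hEf] at hd1
  have hd2 : p ^ f - 1 ∣ r * (p ^ Nat.gcd a f - 1) := by
    have h2 := Nat.dvd_gcd hd1 (Dvd.intro_left r rfl)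
    rwa [Nat.gcd_mul_left, Nat.pow_sub_one_gcd_pow_sub_one] at h2
  obtain ⟨r₀, h0, h1, h2, h3⟩ := exists_digits p (Nat.gcd_ne_zero_right hf0) (by rw [mul_comm]; exact hs.symm)
    hM.ne_zero (by rw [← hEf]; exact hM.le) hd2
  refine ⟨r₀, h0, h1, fun t => by rw [hr, h2], ?_⟩
  rw [← h3]
  exact hM.finrank p

/-- **The dimension of an edge**: `dim Le {i} = m ^ s`, `m ≥ 2`. -/
theorem edge_pow (hi : i ∉ Jx cs h X (lin (acRep φ))) {a f s : ℕ} (hF : Nat.card F = p ^ a)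
    (hE : Nat.card E = p ^ f) (hs : s * Nat.gcd a f = f) :
    ∃ m, 2 ≤ m ∧ Module.finrank (AlgebraicClosure F) (Le cs h T X (lin (acRep φ)) {i}) = m ^ s := by
  have hchar : CharP (AlgebraicClosure F) p := charP_of_injective_algebraMap (algebraMap F _).injective p
  have hirr := ac_irr R hG hT hφ hP
  obtain ⟨c, hc, hc0, χ, hχ⟩ := exists_chi R hirr hT
  obtain ⟨j⟩ := H875.Psl2.exists_emb F E p
  obtain ⟨r₀, h0, -, -, h3⟩ := edge_data R hG hT hφ hP N hi hF hE hs j hc hc0 hχ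
  exact ⟨_, H875.Fn.two_le_card_SS h0, h3⟩

/-- **The case `|E| = |F| ^ s`.** -/
theorem edge_pow_of_card (hi : i ∉ Jx cs h X (lin (acRep φ))) {s : ℕ} (hE : Nat.card E = Nat.card F ^ s) :
    ∃ m, 2 ≤ m ∧ Module.finrank (AlgebraicClosure F) (Le cs h T X (lin (acRep φ)) {i}) = m ^ s := by
  have hfin : Finite F := by
    by_contra hcon
    rw [not_finite_iff_infinite] at hcon
    have h1 : Nat.card F = 0 := Nat.card_eq_zero_of_infinite
    have h2 := Fintype.one_lt_card (α := E)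
    rw [← Nat.card_eq_fintype_card, hE, h1] at h2
    rcases Nat.eq_zero_or_pos s with h3 | h3
    · rw [h3, pow_zero] at h2; omega
    · rw [zero_pow (by omega)] at h2; omega
  have := Fintype.ofFinite F
  obtain ⟨a, -, ha⟩ := FiniteField.card F p
  have hF : Nat.card F = p ^ (a : ℕ) := by rw [Nat.card_eq_fintype_card, ha]
  refine edge_pow R hG hT hφ hP N hi (a := a) (f := a * s) (s := s) hF (by rw [hE, hF, pow_mul]) ?_
  rw [Nat.gcd_eq_left (Dvd.intro s rfl), mul_comm]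

end Fn

end Cfsg.Agent.H650.Ppd
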