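import Cfsg.Agent.H905.Sp4Final
import Cfsg.Agent.H650.Ppd.Edge

/-!
# `PSp_4(K)`, `|K| = |F| ^ e`, `e ≥ 2`: the dimension is at least `8 e` (helper650, TEAM PPD)

* `card_SS_of_mem` : `1 ≤ r ≤ |K| - 1`, `j(s) ^ r ∈ F` for all `s`: `|SS p r| ≥ 2 ^ e`;
* **`le_card_psp4`**.
-/

set_option autoImplicit false
set_option linter.unusedSectionVars false
set_option linter.style.haveILetI false

namespace Cfsg.Agent.H650.Ppd

open CoxeterSystem Cfsg.Agent.ChevalleyStructure.CoxeterGeom Cfsg.Agent.Tits.Roots Cfsg.Agent.Nodes.TypeC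
open Cfsg.Agent.Nodes.Comb Cfsg.Agent.Nodes.Reps Cfsg.Agent.Nodes.WittRoot Cfsg.Agent.Nodes.BNOf
open Cfsg.Agent.Nodes.Bruhat Cfsg.Agent.Omega.CR Cfsg.Agent.Omega.FOne.Lift.Sd Cfsg.Agent.Nodes.StabComb
open Cfsg.Agent.Tits.Core Cfsg.Agent.Tits.Exchange Cfsg.Agent.H905.Md Cfsg.Agent.KFacts.RgdOpp
open Cfsg.Agent.TitsThree.SpIdent Cfsg.Agent.H62.SpCross
open Cfsg.Agent.H911 (lin)
open Cfsg.Agent.H905.Sp4 Cfsg.Agent.H909.Sp4Ker
open Cfsg Cfsg.Geo Cfsg.Agent.H915.LD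
open Cfsg.Agent.H875.Fn (SS)

universe u

section digits

variable {F : Type*} [Field F] [Finite F] {K : Type*} [Field K] [Finite K] (p : ℕ) [hp : Fact p.Prime]
  [hFp : CharP F p] [hKp : CharP K p]
include hp hFp hKp

theorem card_SS_of_mem (j : K →+* AlgebraicClosure F) {r : ℕ} (hr0 : r ≠ 0) (hr : r ≤ Nat.card K - 1)
    (h : ∀ s : Kˣ, ∃ x : F, algebraMap F (AlgebraicClosure F) x = j s ^ r) {e : ℕ} (hK : Nat.card K = Nat.card F ^ e) :
    2 ^ e ≤ (SS p r).card := by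
  have := Fintype.ofFinite F
  obtain ⟨a, -, ha⟩ := FiniteField.card F p
  have hF : Nat.card F = p ^ (a : ℕ) := by rw [Nat.card_eq_fintype_card, ha]
  have hd : Nat.card K - 1 ∣ r * (Nat.card F - 1) := by
    have := Fintype.ofFinite K
    rw [Nat.card_eq_fintype_card (α := K)]
    refine H875.Fn.dvd_of_pow_eq (j := j) (fun s => ?_) Nat.card_pos
    obtain ⟨x, hx⟩ := h s
    rw [← pow_mul, mul_comm, pow_mul, ← hx, ← map_pow, Nat.card_eq_fintype_card, FiniteField.pow_card]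
  have hK' : Nat.card K = p ^ ((a : ℕ) * e) := by rw [hK, hF, pow_mul]
  rw [hK', hF] at hd
  rw [hK'] at hr
  obtain ⟨r₀, h0, -, -, h3⟩ := exists_digits p (d := a) (s := e) a.ne_zero rfl hr0 hr hd
  rw [h3]
  exact Nat.pow_le_pow_left (H875.Fn.two_le_card_SS h0) e

end digits

theorem arith_two {e : ℕ} (he : 2 ≤ e) : 2 * e ≤ 2 ^ e := by
  induction e, he using Nat.le_induction with
  | base => norm_num
  | succ j hj ih => rw [pow_succ]; omega

/-- **`PSp_4(K)`, `|K| = |F| ^ e`.** -/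
theorem le_card_psp4 {F : Type u} [Field F] [Finite F] {ι : Type} [Fintype ι] [DecidableEq ι] {P : Subgroup (GL ι F)}
    {K : Type*} [Field K] [Finite K] (p : ℕ) [hp : Fact p.Prime] [hFp : CharP F p] [hKp : CharP K p]
    (hC : Core P) (Φ : Soc P ≃* PSp 2 K) {e : ℕ} (he : 2 ≤ e) (hK : Nat.card K = Nat.card F ^ e) :
    8 * e ≤ Fintype.card ι := by
  have := Fintype.ofFinite K
  have hchar : CharP (AlgebraicClosure F) p := charP_of_injective_algebraMap (algebraMap F _).injective p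
  haveI := hC.nonempty
  haveI := finite_isos (m := 2) (F := K)
  haveI : Finite (CoxeterMatrix.B 2).Group := finite_W (CoxeterMatrix.B 2).toCoxeterSystem
  have hF2 : 2 ≤ Nat.card F := Finite.one_lt_card
  have hK3 : 3 ≤ Nat.card K := by
    rw [hK]
    calc 3 ≤ 2 ^ 2 := by norm_num
      _ ≤ Nat.card F ^ 2 := Nat.pow_le_pow_left hF2 2
      _ ≤ Nat.card F ^ e := Nat.pow_le_pow_right (by omega) he
  obtain ⟨φ, hφ⟩ := exists_rep p hC hK3 Φ
  obtain ⟨j⟩ := exists_lift_ac (F := F) (K := K) p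
  have hirr : ∀ L : Submodule (AlgebraicClosure F) (ι → AlgebraicClosure F),
      Ivt (lin (acRep φ)) ⊤ L → L = ⊥ ∨ L = ⊤ :=
    fun L hL => acRep_irr hφ (H920.span_eq_top hC.absIrred) rfl L hL
  have hfin : Module.finrank (AlgebraicClosure F) (ι → AlgebraicClosure F) = Fintype.card ι :=
    Module.finrank_fintype_fun_eq_card _
  obtain ⟨c₁, c₂, c, ψ, h1, h2, h3, h4, h5, h6, h7, h8⟩ := exists_coef (CoxeterMatrix.B 2).toCoxeterSystem p hirr
    (by rw [hfin]; exact hC.two_le) j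
  have hc0 : c ≠ 0 := by
    rintro rfl
    rw [map_zero] at h6
    exact zero_ne_one h6
  -- the kernel
  have H : ∀ r s : IsoPair K, (ψ.comp (lin (acRep φ) (gr r))) (lin (acRep φ) (gc s) c) =
      j (D1 r s) ^ c₁ * j (D2 r s) ^ c₂ := by
    intro r s
    rw [LinearMap.comp_apply, ← rho_mul, h8, F1_pair, F2_pair]
  -- the values are in `F`
  have hmem : ∀ t ∈ T4 K, ∃ x : F, algebraMap F (AlgebraicClosure F) x = j (F1 t.1) ^ c₁ * j (F2 t.1) ^ c₂ :=
    fun t ht => H905.Md.chi_mem (R4 (K := K) (p := p) (CoxeterMatrix.B 2).toCoxeterSystem) (GG4 _) hφ hC.absIrred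
      h4 hc0 h7 ht
  have hm1 : ∀ s : Kˣ, ∃ x : F, algebraMap F (AlgebraicClosure F) x = j s ^ c₁ := by
    intro s
    have h9 := hmem _ (dgY_mem ![s, s⁻¹])
    rw [F1_dg, F2_dg] at h9
    simpa using h9
  have hm2 : ∀ s : Kˣ, ∃ x : F, algebraMap F (AlgebraicClosure F) x = j s ^ c₂ := by
    intro s
    have h9 := hmem _ (dgY_mem ![1, s])
    rw [F1_dg, F2_dg] at h9
    simpa using h9
  have h2e := arith_two he
  by_cases hc2 : c₂ = 0
  · have hc1 : c₁ ≠ 0 := fun h => h3 ⟨h, hc2⟩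
    have hb := bound_C0 (p := p) j (fun r => ψ.comp (lin (acRep φ) (gr r))) (fun s => lin (acRep φ) (gc s) c)
      (fun r s => by rw [H, hc2, pow_zero, mul_one]) hc1 (by rwa [← Nat.card_eq_fintype_card])
    have h9 := card_SS_of_mem p j hc1 h1 hm1 hK
    rw [hfin] at hb
    omega
  · have h9 := card_SS_of_mem p j hc2 h2 hm2 hK
    have h10 : Rk p (Fintype.card K) c₂ = (SS p c₂).card := Rk_eq (by rwa [← Nat.card_eq_fintype_card])
    by_cases hc1 : c₁ = 0
    · have hb := bound_A0 (p := p) j (fun r => ψ.comp (lin (acRep φ) (gr r))) (fun s => lin (acRep φ) (gc s) c) H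
      rw [hc1, zero_add, h10, hfin] at hb
      have h11 : 2 ^ e * 2 ^ e ≤ (SS p c₂).card * (SS p c₂).card := Nat.mul_le_mul h9 h9
      have h12 : (2 * e) * (2 * 2) ≤ 2 ^ e * 2 ^ e := Nat.mul_le_mul h2e (by omega)
      omega
    · have hb := bound_A (p := p) j (fun r => ψ.comp (lin (acRep φ) (gr r))) (fun s => lin (acRep φ) (gc s) c) H hc1
      rw [h10, hfin] at hb
      have h11 : 2 ≤ Rk p (Fintype.card K) (c₁ + c₂) := two_le_Rk (by omega)
      have h12 : 2 * (2 * e) ≤ Rk p (Fintype.card K) (c₁ + c₂) * (SS p c₂).card := Nat.mul_le_mul h11 (by omega)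
      omega

end Cfsg.Agent.H650.Ppd
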