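import Cfsg.Agent.H650.Ppd.NatB
import Cfsg.Agent.H650.Ppd.SpNd
import Cfsg.Agent.H650.Ppd.SpTwo
import Cfsg.Agent.H650.Ppd.Psl
import Cfsg.Agent.H948.Ppd.EdgeB
import Cfsg.Agent.H925.NatMain
import Cfsg.Agent.S0245

/-!
# TEAM PPD (S5948): `PSp_2l(K)` in its own characteristic (helper650)

* `exists_card` : `|F| ^ j = |K|`; `le_of_dvd_sp` : `k ≤ 2 l j`;
* `cjOf_sp` : `l ≥ 3`, `10 ≤ |ι| < 4 l j` : `P` is the symplectic group;
* **`nat_psp`**.
-/

set_option autoImplicit false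
set_option linter.unusedSectionVars false
set_option linter.style.haveILetI false

namespace Cfsg.Agent.H650.Ppd

open CoxeterSystem Cfsg.Agent.ChevalleyStructure.CoxeterGeom Cfsg.Agent.Tits.Roots Cfsg.Agent.Tits.Core
  Cfsg.Agent.Nodes.Reps Cfsg.Agent.Nodes.BNOf Cfsg.Agent.Nodes.Bruhat Cfsg.Agent.Nodes.RGDLib
open Cfsg.Agent.Nodes Cfsg.Agent.Nodes.WittRoot Cfsg.Agent.Nodes.WittRGD Cfsg.Agent.Nodes.WittAll
open Cfsg.Agent.Nodes.TypeC (isCartan)
open Cfsg.Agent.TitsThree Cfsg.Agent.TitsThree.Siegel Cfsg.Agent.TitsThree.WittFrame Cfsg.Agent.TitsThree.FrameCN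
open Cfsg.Agent.H915.LD Cfsg.Agent.H911 Cfsg.Agent.H905.Md Cfsg.Agent.H925.Nat Cfsg.Agent.Nodes.RGDLift
open Cfsg.Agent.H156.Ppd (Cov lrep)
open Cfsg.Agent.H948.Ppd (TB XB NB exists_covB identify_B lift_nd lift_comm_pow)
open Cfsg.Agent.Omega.CR Cfsg.Agent.Omega.FOne.Lift.Sd
open Cfsg Cfsg.Geo
open Cfsg.Agent.H100.Ppd (Row Num Nat')
open scoped MatrixGroups Matrix

universe u

section core

variable {F : Type u} [Field F] [Finite F] {ι : Type} [Fintype ι] [DecidableEq ι] {P : Subgroup (GL ι F)}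
  {K : Type} [Field K] [Finite K] (p : ℕ) [hp : Fact p.Prime] [hFp : CharP F p] [hKp : CharP K p] {l : ℕ}
include hp hFp hKp

/-- the order of the field -/
theorem exists_card (hC : Core P) (hm : 0 < l) (hK : 3 ≤ l ∨ (l = 2 ∧ 3 ≤ Nat.card K) ∨ 4 ≤ Nat.card K)
    (e : Soc P ≃* PSp l K) : ∃ j, 1 ≤ j ∧ Nat.card F ^ j = Nat.card K := by
  have := Fintype.ofFinite K
  haveI := hC.nonempty
  obtain ⟨a, -, ha⟩ := FiniteField.card K p
  have hcard : Nat.card K = p ^ (a : ℕ) := by rw [Nat.card_eq_fintype_card, ha]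
  have hfr : Fr P (Nat.card K) := fun g hg => (psp_both p hC.absIrred hC.perfect hm hK e hg).1
  rw [hcard] at hfr
  obtain ⟨j, hj, hj'⟩ := card_pow_eq (F := F) p a.ne_zero (hC.pow_eq p hfr)
  exact ⟨j, by omega, by rw [hcard, hj']⟩

/-- **The identification.** -/
theorem cjOf_sp (hC : Core P) (hl : 3 ≤ l) (e : Soc P ≃* PSp l K) {j : ℕ} (hj : 1 ≤ j)
    (hjK : Nat.card K = Nat.card F ^ j) (h10 : 10 ≤ Fintype.card ι) (hlt : Fintype.card ι < 4 * (l * j)) :
    CjOf (spGL l F) P := by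
  haveI := hC.nonempty
  have hWf : Finite (CoxeterMatrix.B l).Group := TypeC.finite_W (CoxeterMatrix.B l).toCoxeterSystem
  have hA : AmbT (SpIdent.frame l K) p (KInstSp.model l K).I := AmbT.of_amb Nodes.WittU.amb_Sp p
  have hp0 : (SpIdent.adm (m := l) (1 : K)).c ≠ 0 := one_ne_zero
  have hperf : commutator ↥(KInstSp.model l K).I = ⊤ := commutator_isos hl
  obtain ⟨Y, _, _, f, φ, n₁, C⟩ := exists_covB hC hA hp0 (by omega) hperf e
  have hrg : ∀ x, Nodes.WittRoot.rg (SpIdent.frame l K) x ≤ (KInstSp.model l K).I := fun x => hA.rg_le x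
  have hT' : ∀ s ∈ TB (KInstSp.model l K), ∀ t ∈ TB (KInstSp.model l K), s * t = t * s := by
    intro s hs t ht
    apply Subtype.ext
    exact torus_comm hA.V0 (Or.inl rfl) (hA.iso _ s.2) (hA.iso _ t.2) hs.2 ht.2
  have hnd : ∀ i, ∃ σ' : SL(2, K) →* (KInstSp.model l K).I,
      H948.Ppd.Nd (TB (KInstSp.model l K)) (XB (KInstSp.model l K)) i σ' := by
    intro i
    obtain ⟨σ, h⟩ := nd_Sp (G0 := (KInstSp.model l K).I) hrg i
    exact ⟨σ, h.up, h.lo, h.tor⟩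
  obtain ⟨hT, -⟩ := lift_comm_pow (N₀ := Nat.card K) C hp0 hT' (fun i => by
    obtain ⟨σ', h⟩ := hnd i
    refine ⟨K, inferInstance, inferInstance, inferInstance, σ', h, fun x => ?_⟩
    have := Fintype.ofFinite K
    rw [Nat.card_eq_fintype_card, FiniteField.pow_card])
  have hN : ∀ i, ∃ σ : SL(2, K) →* Y, Nd ((TB (KInstSp.model l K)).comap f)
      (fun x => lft p f (XB (KInstSp.model l K) x)) i σ := by
    intro i
    obtain ⟨σ', h⟩ := hnd i
    obtain ⟨σ, -, h'⟩ := lift_nd C hp0 h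
    exact ⟨σ, Nd.ofH948 h'⟩
  obtain ⟨-, hJ, hL⟩ := num_B C.rgd C.hGG hT C.range hC.absIrred hN hl hj hjK h10 hlt
  obtain ⟨τ, θ, hθ⟩ := identify_B hC hA hp0 (by omega)
    (span_of_matrixSet mem_spGL_iff' (H931.spGL_absIrreducible (by omega))) C hT (o := ⟨0, by omega⟩) rfl
    (fun i hi => Fin.ext (hJ i hi)) (hL _ rfl)
  exact cjOf_of mem_spGL_iff' (map_spGL_glm τ l) hθ

end core

section row

variable {n : ℕ} {F : Type u} [Field F] [Finite F] {k m : ℕ} {P : Subgroup (GL (Fin n) F)}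

/-- a prime divisor of `m` dividing `|Sp_2l(K)|` -/
theorem le_of_dvd_sp (h : Row k m P) {K : Type*} [Field K] [Fintype K] {j l : ℕ} (hj : 1 ≤ j)
    (hjK : Nat.card F ^ j = Nat.card K) {r : ℕ} (hr : r.Prime) (hrm : r ∣ m)
    (hd : r ∣ Nat.card (Matrix.symplecticGroup (Fin l) K)) : k ≤ j * (2 * l) := by
  rw [Cfsg.Agent.S0245.result (F := K) rfl l, hr.dvd_mul] at hd
  rcases hd with hd | hd
  · exfalso
    have h1 := hr.dvd_of_dvd_pow hd
    rw [← Nat.card_eq_fintype_card, ← hjK] at h1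
    exact h.num.not_dvd_q hr hrm (hr.dvd_of_dvd_pow h1)
  · obtain ⟨e, he, hde⟩ := (Prime.dvd_finsetProd_iff hr.prime _).1 hd
    rw [Finset.mem_range] at he
    have h1 := le_of_dvd h.num hr hrm (hjK.trans Nat.card_eq_fintype_card) hj (by omega) hde
    exact h1.trans (Nat.mul_le_mul_left _ (by omega))

variable {K : Type} [Field K] [Fintype K] (p : ℕ) [hp : Fact p.Prime] [hFp : CharP F p] [hKp : CharP K p]
include hp hFp hKp

/-- **`PSp_2l(K)` in its own characteristic.** -/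
theorem nat_psp (h : Row k m P) (hg : ∃ r, r.Prime ∧ r ∣ m ∧ r ∣ Nat.card (Soc P)) {l : ℕ} (hl : 2 ≤ l)
    (h3 : l = 2 → 3 ≤ Fintype.card K) (e : Soc P ≃* PSp l K) : Nat' P := by
  have hC := h.core
  have hn := h.num
  have hK : 3 ≤ l ∨ (l = 2 ∧ 3 ≤ Nat.card K) ∨ 4 ≤ Nat.card K := by
    rcases Nat.lt_or_ge l 3 with h1 | h1
    · exact Or.inr (Or.inl ⟨by omega, by rw [Nat.card_eq_fintype_card]; exact h3 (by omega)⟩)
    · exact Or.inl h1
  obtain ⟨j, hj, hjK⟩ := exists_card p hC (by omega) hK e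
  have hk : k ≤ j * (2 * l) := by
    obtain ⟨r, hr, hrm, hrT⟩ := hg
    refine le_of_dvd_sp h hj hjK hr hrm (hrT.trans ?_)
    rw [Nat.card_congr e.toEquiv]
    exact Subgroup.card_quotient_dvd_card _
  have hn10 := hn.ten
  have hnlt : n < 2 * (j * (2 * l)) := lt_of_lt_of_le hn.nlt (Nat.mul_le_mul_left _ hk)
  have h4 : 2 * (j * (2 * l)) = 4 * (l * j) := by ring
  rw [h4] at hnlt
  rcases Nat.lt_or_ge l 3 with h1 | h1
  · exfalso
    obtain rfl : l = 2 := by omega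
    have h5 := le_card_psp4 p hC e (e := j) (by omega) hjK.symm
    rw [Fintype.card_fin] at h5
    omega
  · have h5 := cjOf_sp p hC h1 e hj hjK.symm (by rw [Fintype.card_fin]; exact hn10)
      (by rw [Fintype.card_fin]; exact hnlt)
    obtain ⟨f, hf, h6⟩ := h5.sp_form
    refine Or.inr (Or.inl ⟨f, hf, fun x hx => (h6 x).2 fun u v => hx _ rfl u v⟩)

end row

end Cfsg.Agent.H650.Ppd
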