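import Cfsg.Agent.H650.Ppd.Edge
import Cfsg.Agent.H948.Ppd.TypeB
import Cfsg.Agent.H924.D5F

/-!
# Type `B_l` in the defining characteristic: dimension `< 4 l j` (helper650, TEAM PPD)

`R` a root group datum of type `B_l`, `l ≥ 3`, all nodes `SL_2(E)`, `|E| = |F| ^ j`, `10 ≤ |ι| < 4 l j`.

* **`num_B`** : `j = 1`, `J^c = {0}` and `dim Le {0} ≤ 2` over the algebraic closure.
-/

set_option autoImplicit false
set_option linter.unusedSectionVars false
set_option linter.style.haveILetI false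

namespace Cfsg.Agent.H650.Ppd

open Matrix CoxeterSystem Cfsg.Agent.ChevalleyStructure.CoxeterGeom Cfsg.Agent.Tits.Roots Cfsg.Agent.Tits.Core
  Cfsg.Agent.Tits.Exchange Cfsg.Agent.Nodes.Reps Cfsg.Agent.Nodes.BNOf Cfsg.Agent.Nodes.StabComb
  Cfsg.Agent.Nodes.Bruhat Cfsg.Agent.Nodes.OppDec Cfsg.Agent.Nodes.LeviDec Cfsg.Agent.KFacts.RgdOpp
  Cfsg.Agent.Omega.CR Cfsg.Agent.Omega.FOne.Lift.Sd Cfsg.Agent.H905.Md Cfsg.Agent.Nodes.TypeC
open Cfsg Cfsg.Geo
open Cfsg.Agent.H911 (lin)

universe u v w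

theorem two_mul_le_two_pow {j : ℕ} (hj : 1 ≤ j) : 2 * j ≤ 2 ^ j := by
  induction j, hj using Nat.le_induction with
  | base => norm_num
  | succ j hj ih => rw [pow_succ]; omega

section

variable {l : ℕ} {W Y : Type*} [Group W] [Group Y] {cs : CoxeterSystem (CoxeterMatrix.B l) W} {p : ℕ}
  {T : Subgroup Y} {n : Fin l → Y} {X : (Fin l → ℤ) → Subgroup Y}
  {F : Type u} [Field F] [Finite F] {ι : Type} [Fintype ι] [DecidableEq ι] [Nonempty ι] {P : Subgroup (GL ι F)}
  {E : Type*} [Field E] [Finite E]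

/-- **Type `B_l`, dimension `< 4 l j`.** -/
theorem num_B [Finite Y] [Finite W] [hp : Fact p.Prime] [hFp : CharP F p] [hEp : CharP E p]
    (R : RGD cs (isCartan l) p T n X) (hG : GG cs (isCartan l) T X = ⊤) (hT : ∀ s ∈ T, ∀ t ∈ T, s * t = t * s)
    {φ : Y →* GL ι F} (hφ : φ.range = P) (hP : ActsAbsolutelyIrreducibly (matrixSet P))
    (hN : ∀ i, ∃ σ : SpecialLinearGroup (Fin 2) E →* Y, Nd T X i σ) (hl : 3 ≤ l) {j : ℕ} (hj : 1 ≤ j)
    (hE : Nat.card E = Nat.card F ^ j) (h10 : 10 ≤ Fintype.card ι) (hlt : Fintype.card ι < 4 * (l * j)) :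
    j = 1 ∧ (∀ i, i ∉ Jx cs (isCartan l) X (lin (acRep φ)) → (i : ℕ) = 0) ∧
      ∀ i : Fin l, (i : ℕ) = 0 →
        Module.finrank (AlgebraicClosure F) (Le cs (isCartan l) T X (lin (acRep φ)) {i}) ≤ 2 := by
  have hchar : CharP (AlgebraicClosure F) p := charP_of_injective_algebraMap (algebraMap F _).injective p
  have hirr := ac_irr R hG hT hφ hP
  have hD := finrank_D R hirr hT
  have hV : Module.finrank (AlgebraicClosure F) (ι → AlgebraicClosure F) = Fintype.card ι :=
    Module.finrank_fintype_fun_eq_card _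
  -- the edges
  have hedge : ∀ i, i ∉ Jx cs (isCartan l) X (lin (acRep φ)) →
      2 ^ j ≤ Module.finrank (AlgebraicClosure F) (Le cs (isCartan l) T X (lin (acRep φ)) {i}) := by
    intro i hi
    have := Fintype.ofFinite E
    obtain ⟨σ, hσ⟩ := hN i
    obtain ⟨m, hm, h1⟩ := edge_pow_of_card R hG hT hφ hP hσ hi hE
    rw [h1]
    exact Nat.pow_le_pow_left hm j
  have h2j := two_mul_le_two_pow hj
  -- the first node
  have h0 : ∀ i : Fin l, (i : ℕ) = 0 → i ∉ Jx cs (isCartan l) X (lin (acRep φ)) → j = 1 ∧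
      Module.finrank (AlgebraicClosure F) (Io cs (isCartan l) T X (lin (acRep φ)) i) = 0 := by
    intro i h0 hi
    have h1 := H948.Ppd.TypeB.dim_ge_first R hirr (by omega) h0 hi
    have h2 := finrank_Io R hirr (ρ := lin (acRep φ)) i
    have h3 := hedge i hi
    rw [hD] at h2
    rw [hD, hV, mul_one] at h1
    have h4 : 2 * l * 2 ≤ 2 * l * (l - 1) := Nat.mul_le_mul_left _ (by omega)
    rcases Nat.lt_or_ge j 2 with hj2 | hj2
    · refine ⟨by omega, ?_⟩
      have hj1 : j = 1 := by omega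
      subst hj1
      by_contra hne
      have h5 : 2 * l * (l - 1) ≤ 2 * l * (l - 1) *
          Module.finrank (AlgebraicClosure F) (Io cs (isCartan l) T X (lin (acRep φ)) i) :=
        Nat.le_mul_of_pos_right _ (Nat.pos_of_ne_zero hne)
      omega
    · exfalso
      have h5 : 2 * l * 2 * (2 ^ j - 2) ≤ 2 * l * (l - 1) *
          Module.finrank (AlgebraicClosure F) (Io cs (isCartan l) T X (lin (acRep φ)) i) :=
        Nat.mul_le_mul h4 (by omega)
      have h6 : 2 * l + 2 * l * 2 * (2 ^ j - 2) < 4 * (l * j) := by omega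
      have h7 : j + 2 ≤ 2 ^ j := by omega
      obtain ⟨y, hy⟩ : ∃ y, 2 ^ j = j + 2 + y := ⟨2 ^ j - (j + 2), by omega⟩
      rw [hy] at h6
      have h8 : j + 2 + y - 2 = j + y := by omega
      rw [h8] at h6
      have h9 : 2 * l * 2 * (j + y) = 4 * (l * j) + 4 * (l * y) := by ring
      rw [h9] at h6
      omega
  -- the other nodes
  have hne : ∀ i, i ∉ Jx cs (isCartan l) X (lin (acRep φ)) → (i : ℕ) = 0 := by
    intro i hi
    by_contra hi0
    have h3 := hedge i hi
    have h1 := H948.Ppd.TypeB.choose_mul_Le_le R hirr hi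
    rw [hV] at h1
    have hi' := i.2
    rcases Nat.lt_or_ge l 4 with hl4 | hl4
    · obtain rfl : l = 3 := by omega
      rcases Nat.lt_or_ge (i : ℕ) 2 with hi2 | hi2
      · have hi1 : (i : ℕ) = 1 := by omega
        rw [hi1] at h1
        have h4 : (Nat.choose 3 (1 + 1)) * 2 ^ (1 + 1) = 12 := by decide
        rw [h4] at h1
        omega
      · have hi1 : (i : ℕ) = 2 := by omega
        have h2 := H948.Ppd.TypeB.dim_ge_last R hirr (by omega) hi
        have h4 := finrank_Io R hirr (ρ := lin (acRep φ)) i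
        rw [hD] at h4
        rw [hD, hV, mul_one] at h2
        have h5 : 2 ^ 3 = 8 := by norm_num
        have h6 : 3 * 2 ^ (3 - 1) = 12 := by norm_num
        rw [h5, h6] at h2
        rcases Nat.lt_or_ge j 2 with hj2 | hj2
        · obtain rfl : j = 1 := by omega
          rcases H924.D5.B.cases R hirr (by rw [hV]; omega) hi with h7 | ⟨-, h7⟩
          · have h8 := (h7 i).1 hi
            rw [h8] at hi1
            exact absurd hi1 (by decide)
          · rw [hV] at h7
            omega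
        · omega
    · have h4 := H948.Ppd.TypeB.four_mul_Le_le R hirr hl4 (by omega) hi
      rw [hV] at h4
      have h5 : 4 * l * (2 * j) ≤ 4 * l * Module.finrank (AlgebraicClosure F)
          (Le cs (isCartan l) T X (lin (acRep φ)) {i}) := Nat.mul_le_mul_left _ (by omega)
      have h6 : 4 * l * (2 * j) = 2 * (4 * (l * j)) := by ring
      rw [h6] at h5
      omega
  obtain ⟨i, hi⟩ := exists_not_mem R hirr (by rw [hD, hV]; omega)
  have hi0 := hne i hi
  obtain ⟨hj1, -⟩ := h0 i hi0 hi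
  refine ⟨hj1, hne, fun i' hi' => ?_⟩
  have he : i' = i := Fin.ext (by omega)
  rw [he]
  obtain ⟨-, h3⟩ := h0 i hi0 hi
  have h2 := finrank_Io R hirr (ρ := lin (acRep φ)) i
  rw [hD] at h2
  omega

end

end Cfsg.Agent.H650.Ppd
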